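import Cfsg.Agent.RootInv.PairQuotient
import Cfsg.Agent.RootInv.RankOneLift
import Mathlib.GroupTheory.SpecificGroups.Dihedral

/-!
# Involutions whose products have order one, two or a prime at least five: no triple

If the products of two members have order `1`, `2` or `p`, with `p ≥ 5` a prime, then the product of two
commuting members with a non-commuting partner is no member: otherwise `L₂(q)` or a Suzuki group would
have all products of two involutions of such orders.
-/

set_option autoImplicit false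
set_option linter.unusedSectionVars false
set_option linter.unusedVariables false
set_option linter.style.haveILetI false

open Subgroup Matrix
open Cfsg
open scoped MatrixGroups

namespace Cfsg.Lib.RootInv

universe u

/-- A conjugation invariant set of involutions whose products have order dividing two or `p`. -/
structure OrderSet {G : Type u} [Group G] (p : ℕ) (D : Set G) : Prop where
  two : ∀ d ∈ D, orderOf d = 2
  conj : ∀ d ∈ D, ∀ g : G, g * d * g⁻¹ ∈ D
  prod : ∀ a ∈ D, ∀ b ∈ D, (a * b) ^ 2 = 1 ∨ (a * b) ^ p = 1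

section Basic

variable {G : Type u} [Group G] {D : Set G} {p : ℕ} {a b : G}

theorem OrderSet.toOT (h : OrderSet p D) (hp : p.Prime) (hp2 : p ≠ 2) (hgen : closure D = ⊤) :
    IsOddTranspositionSet D := by
  refine ⟨⟨h.two, hgen, fun d hd g => h.conj d hd g, fun a ha b hb => ?_⟩, fun a ha b hb h4 => ?_⟩
  · rcases h.prod a ha b hb with h1 | h1
    · left
      have hA : a⁻¹ = a := inv_eq_of_mul_eq_one_right (by rw [← pow_two, ← h.two a ha, pow_orderOf_eq_one])
      have hB : b⁻¹ = b := inv_eq_of_mul_eq_one_right (by rw [← pow_two, ← h.two b hb, pow_orderOf_eq_one])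
      rw [pow_two, mul_eq_one_iff_eq_inv, _root_.mul_inv_rev, hA, hB] at h1
      exact h1
    · exact Or.inr (Or.inl ((hp.odd_of_ne_two hp2).of_dvd_nat (orderOf_dvd_of_pow_eq_one h1)))
  · rcases h.prod a ha b hb with h1 | h1 <;> have h2 := orderOf_dvd_of_pow_eq_one h1 <;> rw [h4] at h2
    · norm_num at h2
    · rcases (Nat.dvd_prime hp).1 h2 with h3 | h3
      · norm_num at h3
      · subst h3; norm_num at hp

/-- The orders pass to a subgroup. -/
theorem OrderSet.restrict (h : OrderSet p D) (H : Subgroup G) : OrderSet p (Subtype.val ⁻¹' D : Set H) :=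
  ⟨fun d hd => by rw [← Subgroup.orderOf_coe]; exact h.two _ hd, fun d hd g => h.conj _ hd g.1,
    fun a ha b hb => (h.prod _ ha _ hb).imp (fun e => Subtype.ext (by simpa using e))
      fun e => Subtype.ext (by simpa using e)⟩

end Basic

/-- The homomorphism of a dihedral group killing the rotations. -/
def dihedralSign (n : ℕ) : DihedralGroup n →* Multiplicative (ZMod 2) :=
  MonoidHom.mk' (fun g => match g with
    | .r _ => 1
    | .sr _ => Multiplicative.ofAdd 1) (by
      rintro (i | i) (j | j) <;>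
        first | rfl | exact (by decide : (1 : Multiplicative (ZMod 2)) = Multiplicative.ofAdd 1 * Multiplicative.ofAdd 1))

variable {G : Type u} [Group G] [Finite G] {D : Set G} {p : ℕ} {a b y : G}

theorem no_triple_gen (hp : p.Prime) (h5 : 5 ≤ p) (h : OrderSet p D) (hgen : closure D = ⊤) (ha : a ∈ D)
    (hb : b ∈ D) (hab : Commute a b) (hm : a * b ∈ D) (hy : y ∈ D) (hay : ¬ Commute a y) : False := by
  have hp2 : p ≠ 2 := by omega
  have hOT := h.toOT hp hp2 hgen
  have hD := hOT.1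
  have hca : ∀ z ∈ D, Commute z a → Commute z b := fun z hz hza =>
    twin_of_product hOT hb ha hab.symm hm hz hza
  have hcb : ∀ z ∈ D, Commute z b → Commute z a := fun z hz hzb =>
    twin_of_product hOT ha hb hab (hab.eq ▸ hm) hz hzb
  have hbE : b ∈ sameCommutingClass D a :=
    ⟨hb, Set.ext fun z => ⟨fun hz => ⟨hz.1, (hca z hz.1 hz.2).eq⟩, fun hz => ⟨hz.1, (hcb z hz.1 hz.2).eq⟩⟩⟩
  have ha_ab : Commute a (a * b) := (Commute.refl a).mul_right hab
  have hmE : a * b ∈ sameCommutingClass D a := by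
    refine ⟨hm, Set.ext fun z => ⟨fun hz => ⟨hz.1, ((show Commute z a from hz.2).mul_right (hca z hz.1 hz.2)).eq⟩,
      fun hz => ⟨hz.1, (twin_of_product hOT ha hm ha_ab ?_ hz.1 hz.2).eq⟩⟩⟩
    rw [← ha_ab.eq, ← mul_assoc, mul_self hD ha, one_mul]
    exact hb
  set X := closure (sameCommutingClass D a ∪ {y}) with hX
  have hEX : ∀ e ∈ sameCommutingClass D a, e ∈ X := fun e he => Subgroup.subset_closure (Or.inl he)
  set a₀ : X := ⟨a, hEX a (self_mem_twins ha)⟩ with ha₀
  set y₀ : X := ⟨y, Subgroup.subset_closure (Or.inr rfl)⟩ with hy₀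
  set C := classIn X a₀ with hC
  have haC : a₀ ∈ C := ⟨1, by simp⟩
  have hyC : y₀ ∈ C := mem_classIn_of_odd hOT ha haC hy hay
  have hEC : ∀ (e : G) (he : e ∈ sameCommutingClass D a), (⟨e, hEX e he⟩ : X) ∈ C := fun e he =>
    mem_classIn_of_odd (u := y₀) hOT ha hyC he.1 fun h' => hay ((commute_twin_iff he hy).2 h').symm
  have hgenC : closure C = ⊤ := by
    refine eq_top_iff.2 (closure_closure_coe_preimage (k := sameCommutingClass D a ∪ {y}) ▸
      Subgroup.closure_mono ?_)
    rintro ⟨e, hm'⟩ (he | he)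
    · exact hEC e he
    · rw [show (⟨e, hm'⟩ : X) = y₀ from Subtype.ext (Set.mem_singleton_iff.1 he)]; exact hyC
  have hOTC := isOddTranspositionSet_classIn hOT (d₀ := a₀) ha hgenC
  have hclC := classIn_class (d₀ := a₀)
  have hadj := odd_of_not_commute hOTC haC hyC fun h' => hay (congrArg Subtype.val h'.eq)
  have hne : a * b ≠ 1 := fun h' => by
    have := h.two _ hm
    rw [h', orderOf_one] at this
    norm_num at this
  have hDDC : (C ∩ commutingProducts C).Nonempty :=
    ⟨⟨a * b, hEX _ hmE⟩, hEC _ hmE, a₀, haC, ⟨b, hEX b hbE⟩, hEC b hbE, Subtype.ext hab.eq,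
      fun h' => hne (congrArg Subtype.val h'), rfl⟩
  set π := QuotientGroup.mk' (pCore 2 X) with hπ
  have hprod : ∀ u ∈ C, ∀ v ∈ C, (u * v) ^ 2 = 1 ∨ (u * v) ^ p = 1 := fun u hu v hv =>
    (h.prod _ (classIn_mem hOT ha hu) _ (classIn_mem hOT ha hv)).imp
      (fun e => Subtype.ext (by simpa using e)) fun e => Subtype.ext (by simpa using e)
  have hπa : orderOf (π a₀) = 2 := (image_pCore hOTC hclC hadj).1.1.orderOf_eq _ ⟨a₀, haC, rfl⟩
  have htwo : ∀ g : X, g ∈ C → π g * π g = 1 := fun g hg => by rw [← map_mul, mul_self hOTC.1 hg, map_one]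
  rcases pair_quotient hOT ha hy hay with
    ⟨F, iF, iF', hchar, h4, ⟨e⟩⟩ | ⟨F, iF, iF', m, hm', hF, ⟨e⟩⟩ | ⟨n, ⟨e⟩⟩
  · -- two involutions of `SL₂` with product of order three
    haveI := hchar
    obtain ⟨ψ⟩ := Cfsg.Lib.Deficit.sl_psl_equiv F
    set σ : X →* SL(2, F) := (e.trans ψ.symm).toMonoidHom.comp π with hσ
    have hsur : Function.Surjective σ := (e.trans ψ.symm).surjective.comp (QuotientGroup.mk'_surjective _)
    have hσa : orderOf (σ a₀) = 2 := by
      rw [hσ, MonoidHom.comp_apply, MulEquiv.coe_toMonoidHom, MulEquiv.orderOf_eq]; exact hπa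
    have h1 : σ a₀ ≠ 1 := fun h' => by rw [h', orderOf_one] at hσa; norm_num at hσa
    have h2 : σ a₀ * σ a₀ = 1 := by rw [← map_mul, mul_self hOTC.1 haC, map_one]
    have key : ∀ i j : SL(2, F), i ≠ 1 → i * i = 1 → j ≠ 1 → j * j = 1 → (i * j) ^ 2 = 1 ∨ (i * j) ^ p = 1 := by
      intro i j hi hii hj hjj
      obtain ⟨u, hu, rfl⟩ := exists_member_image hsur hOTC.1.conj_mem haC (Cfsg.Lib.Deficit.involutions_conj h1 h2 hi hii)
      obtain ⟨v, hv, rfl⟩ := exists_member_image hsur hOTC.1.conj_mem haC (Cfsg.Lib.Deficit.involutions_conj h1 h2 hj hjj)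
      exact (hprod u hu v hv).imp (fun e => by rw [← map_mul, ← map_pow, e, map_one])
        fun e => by rw [← map_mul, ← map_pow, e, map_one]
    have h20 : (2 : F) = 0 := CharTwo.two_eq_zero
    let J : SL(2, F) := ⟨!![0, 1; 1, 0], by simp [Matrix.det_fin_two, CharTwo.neg_eq]⟩
    set i := Cfsg.Lib.GLTwo.upper (Cfsg.Lib.Deficit.oneRoot (F := F)) 1 with hi
    have hij : ((i * J : SL(2, F)) : Matrix (Fin 2) (Fin 2) F) = !![1, 1; 1, 0] := by
      show (i : Matrix (Fin 2) (Fin 2) F) * (J : Matrix (Fin 2) (Fin 2) F) = _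
      simp only [hi, J, Cfsg.Lib.GLTwo.coe_upper, Cfsg.Lib.Deficit.oneRoot]
      ext r s
      fin_cases r <;> fin_cases s <;> simp [Matrix.mul_apply, Fin.sum_univ_two]
    have hg3 : (i * J) ^ 3 = 1 := by
      refine Subtype.ext ?_
      rw [Matrix.SpecialLinearGroup.coe_pow, hij, Matrix.SpecialLinearGroup.coe_one]
      ext r s
      fin_cases r <;> fin_cases s <;>
        simp [pow_succ, Matrix.mul_apply, Fin.sum_univ_two, CharTwo.add_self_eq_zero]
    have hg2 : (i * J) ^ 2 ≠ 1 := fun h' => by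
      have h'' := congrArg (fun z : SL(2, F) => (z : Matrix (Fin 2) (Fin 2) F)) h'
      simp only [Matrix.SpecialLinearGroup.coe_pow, hij, Matrix.SpecialLinearGroup.coe_one] at h''
      have h3 := congrFun (congrFun h'' 0) 1
      simp [pow_two, Matrix.mul_apply, Fin.sum_univ_two] at h3
    refine (key i J (Cfsg.Lib.Deficit.upper_ne_one one_ne_zero) ?_ ?_ ?_).elim hg2 fun hgp => ?_
    · rw [hi, Cfsg.Lib.Deficit.upper_mul, CharTwo.add_self_eq_zero, Cfsg.Lib.Deficit.upper_zero']
    · intro h'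
      have h'' := congrFun (congrFun (congrArg (fun z : SL(2, F) => (z : Matrix (Fin 2) (Fin 2) F)) h') 0) 0
      simp [J] at h''
    · refine Subtype.ext ?_
      rw [Matrix.SpecialLinearGroup.coe_mul, Matrix.SpecialLinearGroup.coe_one]
      show !![(0 : F), 1; 1, 0] * !![(0 : F), 1; 1, 0] = 1
      ext r s
      fin_cases r <;> fin_cases s <;> simp [Matrix.mul_apply, Fin.sum_univ_two]
    · have hcop : Nat.Coprime 3 p := (Nat.coprime_primes Nat.prime_three hp).2 (by omega)
      have h1' : i * J = 1 := orderOf_eq_one_iff.1 (Nat.eq_one_of_dvd_coprimes hcop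
        (orderOf_dvd_of_pow_eq_one hg3) (orderOf_dvd_of_pow_eq_one hgp))
      exact hg2 (by rw [h1', one_pow])
  · -- products of order five and `q - 1` in a Suzuki group
    have Q : Cfsg.Lib.Suz.Par F m := ⟨hm', hF⟩
    haveI := Cfsg.Lib.Suz.charP Q
    set E := e.trans (Cfsg.Lib.Suz.lieEquiv Q).symm with hE
    set σ : X →* Cfsg.Sz F m := E.toMonoidHom.comp π with hσ
    have hsur : Function.Surjective σ := E.surjective.comp (QuotientGroup.mk'_surjective _)
    have hσa : orderOf (σ a₀) = 2 := by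
      rw [hσ, MonoidHom.comp_apply, MulEquiv.coe_toMonoidHom, MulEquiv.orderOf_eq]; exact hπa
    have key : ∀ i j : Cfsg.Sz F m, i ≠ 1 → i * i = 1 → j ≠ 1 → j * j = 1 → (i * j) ^ 2 = 1 ∨ (i * j) ^ p = 1 := by
      intro i j hi hii hj hjj
      obtain ⟨u, hu, rfl⟩ := exists_member_image hsur hOTC.1.conj_mem haC
        (suz_involution_conj Q hσa (orderOf_eq_prime (by rw [pow_two]; exact hii) hi))
      obtain ⟨v, hv, rfl⟩ := exists_member_image hsur hOTC.1.conj_mem haC
        (suz_involution_conj Q hσa (orderOf_eq_prime (by rw [pow_two]; exact hjj) hj))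
      exact (hprod u hu v hv).imp (fun e => by rw [← map_mul, ← map_pow, e, map_one])
        fun e => by rw [← map_mul, ← map_pow, e, map_one]
    let w : Cfsg.Sz F m := ⟨Cfsg.Lib.Suz.W F, Cfsg.Lib.Suz.W_mem Q⟩
    have hw1 : w ≠ 1 := fun h' => by
      have h'' := congrFun (congrFun (congrArg (fun z : Cfsg.Sz F m => (z.1.1 : Matrix (Fin 4) (Fin 4) F)) h') 0) 0
      simp [w, Cfsg.Lib.Suz.W] at h''
    have hww : w * w = 1 := Subtype.ext (Cfsg.Lib.Suz.W_sq Q)
    set t := Cfsg.Lib.Suz.uu Q (0 : F) 1 with ht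
    have htt : t * t = 1 := by
      rw [← pow_two, ht, Cfsg.Lib.Suz.uu_sq, zero_pow (Nat.succ_ne_zero _), Cfsg.Lib.Suz.uu_zero]
    have ht1 : t ≠ 1 := fun h' => one_ne_zero (Cfsg.Lib.Suz.uu_inj Q (h'.trans (Cfsg.Lib.Suz.uu_zero Q).symm)).2
    have hz : (0 : F) ^ (2 ^ (m + 1) + 2) = 0 := zero_pow (Nat.succ_ne_zero _)
    have hz' : (0 : F) ^ (2 ^ (m + 1)) = 0 := zero_pow (pow_ne_zero _ two_ne_zero)
    have hz'' : (0 : F) ^ (2 ^ (m + 1) + 1) = 0 := zero_pow (Nat.succ_ne_zero _)
    have hmat : ((w * t).1.1 : Matrix (Fin 4) (Fin 4) F) = !![0, 0, 0, 1; 0, 0, 1, 0; 0, 1, 0, 1; 1, 0, 1, 1] := by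
      show (Cfsg.Lib.Suz.W F).1 * (Cfsg.Lib.Suz.T m (0 : F) 1).1 = _
      simp only [Cfsg.Lib.Suz.W, Cfsg.Lib.Suz.T, Cfsg.Lib.Suz.Tmat, Cfsg.Lib.Suz.fn, hz, hz', hz'', one_pow]
      ext r s
      fin_cases r <;> fin_cases s <;> simp [Matrix.mul_apply, Fin.sum_univ_four]
    have hsq : (w * t).1.1 * (w * t).1.1 =
        !![1, 0, 1, 1; 0, 1, 0, 1; 1, 0, 0, 1; 1, 1, 1, 1] := by
      rw [hmat]
      ext r s
      fin_cases r <;> fin_cases s <;> simp [Matrix.mul_apply, Fin.sum_univ_four, CharTwo.add_self_eq_zero]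
    have hg2 : (w * t) ^ 2 ≠ 1 := fun h' => by
      have h'' : (w * t).1.1 * (w * t).1.1 = 1 := by
        have := congrArg (fun z : Cfsg.Sz F m => (z.1.1 : Matrix (Fin 4) (Fin 4) F)) h'
        simpa [pow_two] using this
      rw [hsq] at h''
      have := congrFun (congrFun h'' 0) 2
      simp at this
    have hg5 : (w * t) ^ 5 = 1 := by
      refine Subtype.ext (Subtype.ext ?_)
      show (((w * t) ^ 5).1 : Matrix (Fin 4) (Fin 4) F) = 1
      rw [show (5 : ℕ) = 2 + 2 + 1 from rfl, pow_add, pow_add, pow_two, pow_one]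
      simp only [Subgroup.coe_mul, Matrix.SpecialLinearGroup.coe_mul] at hsq hmat ⊢
      rw [hsq, hmat]
      ext r s
      fin_cases r <;> fin_cases s <;> simp [Matrix.mul_apply, Fin.sum_univ_four, CharTwo.add_self_eq_zero]
    rcases key w t hw1 hww ht1 htt with hgp | hgp
    · exact hg2 hgp
    have hp5 : p = 5 := by
      by_contra hne5
      have h1' : w * t = 1 := orderOf_eq_one_iff.1 (Nat.eq_one_of_dvd_coprimes
        ((Nat.coprime_primes (by norm_num) hp).2 (Ne.symm hne5)) (orderOf_dvd_of_pow_eq_one hg5)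
        (orderOf_dvd_of_pow_eq_one hgp))
      exact hg2 (by rw [h1', one_pow])
    obtain ⟨k, hk⟩ := IsCyclic.exists_generator (α := Fˣ)
    have hord : orderOf k = 2 ^ (2 * m + 1) - 1 := by
      classical
      rw [orderOf_eq_card_of_forall_mem_zpowers hk, Nat.card_eq_fintype_card, Fintype.card_units, hF]
    have hmod : (2 : ℕ) ^ (2 * m + 1) % 5 ≠ 1 ∧ 8 ≤ 2 ^ (2 * m + 1) := by
      refine ⟨?_, le_of_eq_of_le (by norm_num : (8 : ℕ) = 2 ^ 3) (Nat.pow_le_pow_right two_pos (by omega))⟩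
      have hc : ∀ i : ℕ, 2 ^ (2 * i + 1) % 5 = 2 ∨ 2 ^ (2 * i + 1) % 5 = 3 := fun i => by
        induction i with
        | zero => left; norm_num
        | succ i ih =>
          rw [show 2 * (i + 1) + 1 = 2 * i + 1 + 2 by ring, pow_add]
          omega
      have := hc m
      omega
    have hk' : Cfsg.Lib.Suz.hI Q k * w * Cfsg.Lib.Suz.hI Q k = w := Subtype.ext (Cfsg.Lib.Suz.hwh Q k)
    set v := w * Cfsg.Lib.Suz.hI Q k with hv
    have hvv : v * v = 1 := by
      rw [hv, show w * Cfsg.Lib.Suz.hI Q k * (w * Cfsg.Lib.Suz.hI Q k) =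
        w * (Cfsg.Lib.Suz.hI Q k * w * Cfsg.Lib.Suz.hI Q k) by group, hk', hww]
    have hwv : w * v = Cfsg.Lib.Suz.hI Q k := by rw [hv, ← mul_assoc, hww, one_mul]
    have hv1 : v ≠ 1 := fun h' => by
      rw [h', mul_one] at hwv
      have h'' := congrFun (congrFun (congrArg (fun z : Cfsg.Sz F m => (z.1.1 : Matrix (Fin 4) (Fin 4) F)) hwv) 0) 3
      simp [w, Cfsg.Lib.Suz.W, Cfsg.Lib.Suz.hI, Cfsg.Lib.Suz.H] at h''
    have hdvd : orderOf k ∣ 2 ∨ orderOf k ∣ 5 := by
      rcases key w v hw1 hww hv1 hvv with h' | h' <;> rw [hwv] at h'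
      · exact Or.inl (orderOf_dvd_of_pow_eq_one (Cfsg.Lib.Suz.hHom_injective Q
          (by rw [map_pow, map_one]; exact h')))
      · exact Or.inr (orderOf_dvd_of_pow_eq_one (Cfsg.Lib.Suz.hHom_injective Q
          (by rw [map_pow, map_one]; exact hp5 ▸ h')))
    rw [hord] at hdvd
    rcases hdvd with h' | h' <;> have := Nat.le_of_dvd (by norm_num) h' <;> omega
  · -- a perfect group has no dihedral quotient
    have hperf := perfect_of_class hOTC.1 hclC hDDC hadj
    set φ : X →* Multiplicative (ZMod 2) := (dihedralSign n).comp (e.toMonoidHom.comp π)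
    obtain ⟨g, hg⟩ := (e.surjective.comp (QuotientGroup.mk'_surjective (pCore 2 X))) (DihedralGroup.sr 0)
    have hle := Abelianization.commutator_subset_ker φ
    rw [hperf] at hle
    have h1 : φ g = 1 := hle (mem_top g)
    rw [show φ g = dihedralSign n (DihedralGroup.sr 0) from congrArg (dihedralSign n) hg] at h1
    exact absurd h1 (show (Multiplicative.ofAdd (1 : ZMod 2)) ≠ 1 by decide)

/-- The product of two commuting members with a non-commuting partner is no member. -/
theorem no_triple (hp : p.Prime) (h5 : 5 ≤ p) (h : OrderSet p D) (ha : a ∈ D) (hb : b ∈ D) (hab : Commute a b)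
    (hm : a * b ∈ D) (hy : y ∈ D) (hay : ¬ Commute a y) : False :=
  no_triple_gen hp h5 (h.restrict (closure D)) closure_closure_coe_preimage
    (a := ⟨a, Subgroup.subset_closure ha⟩) (b := ⟨b, Subgroup.subset_closure hb⟩) (y := ⟨y, Subgroup.subset_closure hy⟩)
    ha hb (Subtype.ext hab.eq) hm hy
    fun (h' : Commute (⟨a, Subgroup.subset_closure ha⟩ : closure D) ⟨y, Subgroup.subset_closure hy⟩) =>
      hay (congrArg Subtype.val h'.eq)

end Cfsg.Lib.RootInv
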