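import Cfsg.Agent.RootInv.SingleOrder.Transitive
import Cfsg.Agent.Blocks.ZStar
import Cfsg.Agent.OddChar.PF.OddOrder
import Cfsg.Agent.Quadratic.BaerSuzuki
import Cfsg.Prelude.Def_SporadicB

/-!
# A class of involutions with at most two product orders

In a group without solvable normal subgroups such a class has commuting pairs by Glauberman's theorem, the
other order is odd by Baer and Suzuki, so a prime, and that prime is three.
-/

set_option autoImplicit false
set_option linter.unusedSectionVars false
set_option linter.unusedVariables false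
set_option linter.style.haveILetI false

open Subgroup
open Cfsg

namespace Cfsg.Lib.RootInv

universe u

variable {G : Type u} [Group G] [Finite G] {D : Set G} {a b x : G}

/-- A rank three action of the centraliser allows at most two product orders. -/
theorem exists_two_orders (hcl : ∀ a ∈ D, ∀ b ∈ D, ∃ g : G, b = g * a * g⁻¹)
    (hconj : ∀ d ∈ D, ∀ g : G, g * d * g⁻¹ ∈ D) {y z : G} (hx : x ∈ D)
    (hD : D = {w : G | ∃ g : G, Commute g x ∧ g * x * g⁻¹ = w} ∪ {w : G | ∃ g : G, Commute g x ∧ g * y * g⁻¹ = w} ∪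
      {w : G | ∃ g : G, Commute g x ∧ g * z * g⁻¹ = w}) :
    ∀ a ∈ D, ∀ b ∈ D, a ≠ b → orderOf (a * b) = orderOf (x * y) ∨ orderOf (a * b) = orderOf (x * z) := by
  have hord : ∀ g k v : G, orderOf ((g * k * g⁻¹) * (g * v * g⁻¹)) = orderOf (k * v) := fun g k v => by
    rw [← orderOf_injective (MulAut.conj g).toMonoidHom (MulAut.conj g).injective (k * v), MulEquiv.coe_toMonoidHom,
      map_mul, MulAut.conj_apply, MulAut.conj_apply]
  have key : ∀ w ∈ D, w ≠ x → orderOf (x * w) = orderOf (x * y) ∨ orderOf (x * w) = orderOf (x * z) := by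
    intro w hw hne
    rw [hD] at hw
    have hfix : ∀ g : G, Commute g x → g * x * g⁻¹ = x := fun g hg => by rw [hg.eq, mul_inv_cancel_right]
    rcases hw with (⟨g, hg, rfl⟩ | ⟨g, hg, rfl⟩) | ⟨g, hg, rfl⟩
    · exact absurd (hfix g hg) hne
    · left
      conv_lhs => rw [← hfix g hg]
      rw [hord g x y]
    · right
      conv_lhs => rw [← hfix g hg]
      rw [hord g x z]
  intro a ha b hb hab
  obtain ⟨g, rfl⟩ := hcl x hx a ha
  have hb' : g⁻¹ * b * g ∈ D := by simpa using hconj b hb g⁻¹
  have h := key _ hb' fun h' => hab (by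
    conv_lhs => rw [← h']
    group)
  rwa [show orderOf (g * x * g⁻¹ * b) = orderOf (x * (g⁻¹ * b * g)) by
    rw [← hord g x (g⁻¹ * b * g), show g * (g⁻¹ * b * g) * g⁻¹ = b by group]]

/-- Two involutions with product of order two or four generate a 2-group. -/
theorem isPGroup_pair (ha : orderOf a = 2) (hb : orderOf b = 2) (hne : a ≠ b) {k : ℕ}
    (h : orderOf (a * b) = 2 ^ k) : IsPGroup 2 (closure ({a, b} : Set G)) := by
  obtain ⟨e⟩ := Cfsg.Lib.InvolCalc.exists_dihedral_equiv ha hb hne
  exact IsPGroup.of_card (n := k + 1) (by rw [Nat.card_congr e.toEquiv, DihedralGroup.nat_card, h, pow_succ']; )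

/-- A generating class of involutions with two product orders consists of 3-transpositions. -/
theorem three_transpositions_of_two_orders (hsol : ∀ N : Subgroup G, N.Normal → Group.IsSolvable N → N = ⊥)
    (hinv : ∀ d ∈ D, orderOf d = 2) (hconj : ∀ d ∈ D, ∀ g : G, g * d * g⁻¹ ∈ D) (hgen : closure D = ⊤)
    (hcl : ∀ a ∈ D, ∀ b ∈ D, ∃ g : G, b = g * a * g⁻¹) {n₁ n₂ : ℕ}
    (horders : ∀ a ∈ D, ∀ b ∈ D, a ≠ b → orderOf (a * b) = n₁ ∨ orderOf (a * b) = n₂) :
    ∀ a ∈ D, ∀ b ∈ D, (a * b) ^ 2 = 1 ∨ (a * b) ^ 3 = 1 := by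
  classical
  haveI : Fact (Nat.Prime 2) := ⟨Nat.prime_two⟩
  have hsq : ∀ d ∈ D, d * d = 1 := fun d hd => by rw [← pow_two, ← hinv d hd, pow_orderOf_eq_one]
  have hO : pCore 2 G = ⊥ := by
    refine hsol _ inferInstance ?_
    haveI : Group.IsNilpotent (pCore 2 G) := (Cfsg.Lib.Components.isPGroup_pCore 2).isNilpotent
    infer_instance
  have hZ : center G = ⊥ := hsol _ inferInstance
    (Group.isSolvable_of_comm fun u v => Subtype.ext (mem_center_iff.1 v.2 u.1))
  have hone : ∀ d ∈ D, ∀ h : d = 1, False := fun d hd h => by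
    have := hinv d hd
    rw [h, orderOf_one] at this
    norm_num at this
  intro a ha b hb
  by_contra hbad
  push Not at hbad
  obtain ⟨hbad2, hbad3⟩ := hbad
  have hne : a ≠ b := fun h => hbad2 (by rw [h, hsq b hb, one_pow])
  -- some pair commutes
  obtain ⟨c, hc, e, he, hce, hcne⟩ : ∃ c ∈ D, ∃ e ∈ D, Commute c e ∧ c ≠ e := by
    by_contra hnone
    push Not at hnone
    have hiso : IsIsolatedInvolution a :=
      ⟨hinv a ha, fun g hg => (hnone a ha _ (hconj a ha g) hg).symm⟩
    have hz := Cfsg.Lib.Blocks.zstar (Nat.card G) rfl hiso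
    have hOdd : pPrimeCore 2 G = ⊥ := hsol _ inferInstance (Cfsg.Agent.PF.isSolvable_of_odd _
      (Nat.coprime_two_right.1 (Cfsg.Lib.Components.coprime_card_pPrimeCore 2)))
    have hc : a ∈ center G := mem_center_iff.2 fun g => by
      have h := hz g
      rw [hOdd, mem_bot, mul_inv_eq_one] at h
      exact ((mul_inv_eq_iff_eq_mul.1 h)).symm
    rw [hZ, mem_bot] at hc
    exact hone a ha hc
  have h2 : orderOf (c * e) = 2 := by
    refine orderOf_eq_prime ?_ fun h => hcne ?_
    · rw [pow_two, show c * e * (c * e) = c * (e * c) * e by group, ← hce.eq,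
        show c * (c * e) * e = (c * c) * (e * e) by group, hsq c hc, hsq e he, one_mul]
    · rw [eq_inv_of_mul_eq_one_left h, inv_eq_of_mul_eq_one_right (hsq e he)]
  set n := orderOf (a * b) with hn
  have hn2 : n ≠ 2 := fun h => hbad2 (by rw [← h, hn, pow_orderOf_eq_one])
  have hn1 : n ≠ 1 := fun h => hbad2 (by rw [orderOf_eq_one_iff.1 h, one_pow])
  have hn3 : n ≠ 3 := fun h => hbad3 (by rw [← h, hn, pow_orderOf_eq_one])
  have hn0 : 0 < n := orderOf_pos _
  have hord : ∀ u ∈ D, ∀ v ∈ D, u ≠ v → orderOf (u * v) = 2 ∨ orderOf (u * v) = n := by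
    intro u hu v hv huv
    rcases horders c hc e he hcne with h1 | h1 <;> rcases horders a ha b hb hne with h3 | h3 <;>
      rcases horders u hu v hv huv with h4 | h4 <;> omega
  rcases Nat.even_or_odd n with ⟨k, hk⟩ | hodd
  · -- all products have order dividing four
    have hbab : b * a * b ∈ D := by
      have := hconj a ha b
      rwa [inv_eq_of_mul_eq_one_right (hsq b hb)] at this
    have hpow : a * (b * a * b) = (a * b) ^ 2 := by rw [pow_two]; group
    have hk2 : orderOf (a * (b * a * b)) = k := by
      rw [hpow, orderOf_pow_of_dvd two_ne_zero (by rw [← hn, hk]; exact ⟨k, by ring⟩), ← hn, hk]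
      omega
    have hk' : k = 2 := by
      have hab' : a ≠ b * a * b := fun h => by
        rw [← h, hsq a ha, orderOf_one] at hk2
        omega
      rcases hord a ha _ hbab hab' with h | h <;> omega
    obtain ⟨N, hN, hNp, hle⟩ := Cfsg.Lib.BaerSuzuki.baer_suzuki (p := 2) (zpowers a) fun g => by
      have hg := hconj a ha g
      have hmap : (zpowers a).map (MulAut.conj g).toMonoidHom = zpowers (g * a * g⁻¹) := by
        rw [MonoidHom.map_zpowers]; rfl
      rw [hmap]
      by_cases h : a = g * a * g⁻¹
      · rw [← h, sup_idem]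
        exact IsPGroup.of_card (n := 1) (by rw [pow_one, Nat.card_zpowers, hinv a ha])
      · rw [zpowers_eq_closure, zpowers_eq_closure, ← Subgroup.closure_union, Set.singleton_union]
        rcases hord a ha _ hg h with h' | h'
        · exact isPGroup_pair (hinv a ha) (hinv _ hg) h (k := 1) (by rw [h', pow_one])
        · exact isPGroup_pair (hinv a ha) (hinv _ hg) h (k := 2) (by rw [h', hk, hk']; norm_num)
    haveI := hN
    have h := Cfsg.Lib.Components.le_pCore hNp (hle (mem_zpowers a))
    rw [hO, mem_bot] at h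
    exact hone a ha h
  · -- the order is a prime at least five
    have hOTpre : ∀ j : ℕ, (a * b) ^ j * a ∈ D := by
      intro j
      induction j using Nat.twoStepInduction with
      | zero => simpa using ha
      | one =>
        have := hconj b hb a
        rw [inv_eq_of_mul_eq_one_right (hsq a ha)] at this
        rwa [pow_one]
      | more j ih _ =>
        have h := hconj _ ih (a * b)
        rw [mul_inv_rev, inv_eq_of_mul_eq_one_right (hsq a ha), inv_eq_of_mul_eq_one_right (hsq b hb)] at h
        rw [show (a * b) ^ (j + 2) = a * b * (a * b) ^ j * (a * b) by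
          rw [← pow_succ', ← pow_succ]]
        convert h using 1
        group
    have hp : n.Prime := by
      set l := n.minFac with hl
      have hlp : l.Prime := Nat.minFac_prime hn1
      obtain ⟨j, hj⟩ := Nat.minFac_dvd n
      have hr := hOTpre j
      have hmul : (a * b) ^ j * a * a = (a * b) ^ j := by rw [mul_assoc, hsq a ha, mul_one]
      have hj0 : j ≠ 0 := fun h => by rw [h, mul_zero] at hj; omega
      have hol : orderOf ((a * b) ^ j * a * a) = l := by
        rw [hmul, orderOf_pow_of_dvd hj0 ⟨l, by rw [← hn, hj, mul_comm]⟩, ← hn]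
        exact Nat.div_eq_of_eq_mul_left (Nat.pos_of_ne_zero hj0) hj
      have hrne : (a * b) ^ j * a ≠ a := fun h => by
        rw [h, hsq a ha, orderOf_one] at hol
        exact hlp.ne_one hol.symm
      rcases hord _ hr a ha hrne with h | h
      · rw [hol] at h
        obtain ⟨i, hi⟩ := hodd
        have := Nat.minFac_dvd n
        rw [← hl, h] at this
        omega
      · exact (hol.symm.trans h) ▸ hlp
    have h5 : 5 ≤ n := by
      rcases hodd with ⟨i, hi⟩
      omega
    have hO' : OrderSet n D := ⟨hinv, fun d hd g => hconj d hd g, fun u hu v hv => by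
      by_cases huv : u = v
      · left; rw [huv, hsq v hv, one_pow]
      rcases hord u hu v hv huv with h | h
      · left; rw [← h, pow_orderOf_eq_one]
      · right; rw [← h, pow_orderOf_eq_one]⟩
    exact hcne (eq_of_commute hp h5 hO' hgen hcl hO hZ hc he hce)

end Cfsg.Lib.RootInv
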