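import Cfsg.Agent.RootInv.SingleOrder.NoTriple

/-!
# Commuting members are twins when all products have order one, two or a prime at least five

If `a`, `b`, `s` commute pairwise, are moved by `y` and their product `w` centralises `y`, then multiplying by
`w` gives a product member, which is impossible.  Hence the product of two commuting members moves a common
odd partner to a commuting member, the pair extends to four members with product one, and the pair are twins.
-/

set_option autoImplicit false
set_option linter.unusedSectionVars false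
set_option linter.unusedVariables false
set_option linter.style.haveILetI false

open Subgroup
open Cfsg

namespace Cfsg.Lib.RootInv

universe u

variable {G : Type u} [Group G] [Finite G] {D : Set G} {p : ℕ} {a b c d e s t y z : G}

/-- The product of three commuting members moved by `y` does not centralise `y`. -/
theorem moved_triple_false (hp : p.Prime) (h5 : 5 ≤ p) (h : OrderSet p D) (ha : a ∈ D) (hb : b ∈ D) (hs : s ∈ D)
    (hab : Commute a b) (has : Commute a s) (hbs : Commute b s) (hne : a ≠ b) (hy : y ∈ D) (hya : ¬ Commute y a)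
    (hyb : ¬ Commute y b) (hys : ¬ Commute y s) (hw : Commute (s * (a * b)) y) : False := by
  have hsq : ∀ k ∈ D, k * k = 1 := fun k hk => by rw [← pow_two, ← h.two k hk, pow_orderOf_eq_one]
  by_cases hw1 : s * (a * b) = 1
  · have hm : a * b ∈ D := by
      rw [eq_inv_of_mul_eq_one_right hw1, inv_eq_of_mul_eq_one_right (hsq s hs)]
      exact hs
    exact no_triple hp h5 h ha hb hab hm hy fun h' => hya h'.symm
  set X := closure ({a, b, s, y} : Set G) with hX
  have maX : a ∈ X := Subgroup.subset_closure (by simp)
  have mbX : b ∈ X := Subgroup.subset_closure (by simp)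
  have msX : s ∈ X := Subgroup.subset_closure (by simp)
  have myX : y ∈ X := Subgroup.subset_closure (by simp)
  set a₀ : X := ⟨a, maX⟩ with ha₀
  set b₀ : X := ⟨b, mbX⟩ with hb₀
  set s₀ : X := ⟨s, msX⟩ with hs₀
  set y₀ : X := ⟨y, myX⟩ with hy₀
  set w : X := s₀ * (a₀ * b₀) with hwdef
  have hwc : w ∈ center X := by
    refine mem_center_iff.2 fun g => Subtype.ext ?_
    have hle : X ≤ centralizer ({s * (a * b)} : Set G) := by
      refine (closure_le _).2 ?_
      rintro k (rfl | rfl | rfl | hk)
      · exact mem_centralizer_singleton_iff.2 (has.mul_right ((Commute.refl k).mul_right hab)).eq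
      · exact mem_centralizer_singleton_iff.2 (hbs.mul_right (hab.symm.mul_right (Commute.refl k))).eq
      · exact mem_centralizer_singleton_iff.2 ((Commute.refl k).mul_right (has.symm.mul_right hbs.symm)).eq
      · rw [Set.mem_singleton_iff.1 hk]; exact mem_centralizer_singleton_iff.2 hw.symm.eq
    exact mem_centralizer_singleton_iff.1 (hle g.2)
  have hwk : ∀ k : X, Commute k w := fun k => mem_center_iff.1 hwc k
  have hR := h.restrict X
  have hsqX : ∀ k : X, (k : G) ∈ D → k * k = 1 := fun k hk => Subtype.ext (hsq _ hk)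
  have hww : w * w = 1 := by
    have h1 : (a₀ * b₀) * (a₀ * b₀) = 1 := Subtype.ext (by
      show a * b * (a * b) = 1
      rw [show a * b * (a * b) = a * (b * a) * b by group, ← hab.eq,
        show a * (a * b) * b = (a * a) * (b * b) by group, hsq a ha, hsq b hb, one_mul])
    have h2 : Commute s₀ (a₀ * b₀) := Subtype.ext (has.symm.mul_right hbs.symm).eq
    rw [hwdef, show s₀ * (a₀ * b₀) * (s₀ * (a₀ * b₀)) = s₀ * ((a₀ * b₀) * s₀) * (a₀ * b₀) by group, ← h2.eq,
      show s₀ * (s₀ * (a₀ * b₀)) * (a₀ * b₀) = (s₀ * s₀) * ((a₀ * b₀) * (a₀ * b₀)) by group, hsqX s₀ hs, h1,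
      one_mul]
  have hwi : w⁻¹ = w := inv_eq_of_mul_eq_one_right hww
  have hprod : ∀ u v : X, u * w * (v * w) = u * v := fun u v => by
    rw [mul_assoc u w, ← mul_assoc w v w, ← (hwk v).eq, mul_assoc v w w, hww, mul_one]
  set D' : Set X := {k | ∃ c : X, (c : G) ∈ D ∧ c ≠ w ∧ k = c * w} with hD'
  have hO : OrderSet p D' := by
    refine ⟨?_, ?_, ?_⟩
    · rintro _ ⟨c, hc, hcw, rfl⟩
      refine orderOf_eq_prime ?_ fun h' => hcw (by rw [eq_inv_of_mul_eq_one_left h', hwi])
      rw [pow_two, hprod, hsqX c hc]
    · rintro _ ⟨c, hc, hcw, rfl⟩ g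
      refine ⟨g * c * g⁻¹, h.conj _ hc g.1, fun h' => hcw ?_, ?_⟩
      · rw [show c = g⁻¹ * (g * c * g⁻¹) * g by group, h', mul_assoc, ← (hwk g).eq, inv_mul_cancel_left]
      · rw [show g * (c * w) * g⁻¹ = g * c * (w * g⁻¹) by group, ← (hwk g⁻¹).eq, ← mul_assoc]
    · rintro _ ⟨c, hc, -, rfl⟩ _ ⟨c', hc', -, rfl⟩
      rw [hprod]
      exact hR.prod c hc c' hc'
  have hwy : Commute y₀ w := hwk y₀
  have hyw : y₀ ≠ w := fun h' => hys (by
    have h1 : Commute s₀ w := hwk s₀
    rw [← h'] at h1
    exact (congrArg Subtype.val h1.eq : s * y = y * s).symm)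
  have haw : a₀ ≠ w := fun h' => hya (by
    rw [← h'] at hwy
    exact congrArg Subtype.val hwy.eq)
  have hbw : b₀ ≠ w := fun h' => hyb (by
    have h1 : Commute y₀ w := hwk y₀
    rw [← h'] at h1
    exact congrArg Subtype.val h1.eq)
  have hsw : s₀ ≠ w := fun h' => hys (by
    have h1 : Commute y₀ w := hwk y₀
    rw [← h'] at h1
    exact congrArg Subtype.val h1.eq)
  refine no_triple hp h5 hO (a := a₀ * w) (b := b₀ * w) (y := y₀ * w) ⟨a₀, ha, haw, rfl⟩ ⟨b₀, hb, hbw, rfl⟩ ?_ ?_
    ⟨y₀, hy, hyw, rfl⟩ fun h' => hya ?_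
  · show a₀ * w * (b₀ * w) = b₀ * w * (a₀ * w)
    rw [hprod, hprod]
    exact Subtype.ext hab.eq
  · refine ⟨s₀, hs, hsw, ?_⟩
    rw [hprod, hwdef, ← mul_assoc, hsqX s₀ hs, one_mul]
  · have e := h'.eq
    rw [hprod, hprod] at e
    exact (congrArg Subtype.val e : a * y = y * a).symm

/-- The product of two commuting members moves a common odd partner to a commuting member. -/
theorem move_commutes (hp : p.Prime) (h5 : 5 ≤ p) (h : OrderSet p D) (hgen : closure D = ⊤) (ha : a ∈ D) (hb : b ∈ D)
    (hab : Commute a b) (hne : a ≠ b) (hy : y ∈ D) (hya : ¬ Commute y a) (hyb : ¬ Commute y b) :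
    Commute y (a * b * y * (a * b)) := by
  have hOT := h.toOT hp (by omega) hgen
  have hD := hOT.1
  by_contra hmov
  have htt := mul_self_of_commute hD ha hb hab
  obtain ⟨s, hs, -, -, hts, hwy, hsy, -⟩ := exists_member_swap hOT htt hy hmov
  obtain ⟨hsa, hsb⟩ := commute_of_commute_product hOT ha hb hne hab hs hts.symm
  exact moved_triple_false hp h5 h ha hb hs hab hsa.symm hsb.symm hne hy hya hyb (fun h' => hsy h'.symm) hwy

/-- A commuting pair with a common odd partner: what commutes with one commutes with the other. -/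
theorem commute_other (hp : p.Prime) (h5 : 5 ≤ p) (h : OrderSet p D) (hgen : closure D = ⊤) (ha : a ∈ D) (hb : b ∈ D)
    (hab : Commute a b) (hne : a ≠ b) (hy : y ∈ D) (hya : ¬ Commute y a) (hyb : ¬ Commute y b) (hz : z ∈ D)
    (hza : Commute z a) : Commute z b := by
  have hOT := h.toOT hp (by omega) hgen
  have hD := hOT.1
  set t := a * b with ht
  have htt : t * t = 1 := mul_self_of_commute hD ha hb hab
  have hti : t⁻¹ = t := inv_eq_of_mul_eq_one_right htt
  have hta : Commute t a := (Commute.refl a).mul_left hab.symm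
  set y₁ := t * y * t with hy₁
  have hy₁D : y₁ ∈ D := conj_mem_inv hD htt hy
  have hyy₁ : Commute y y₁ := move_commutes hp h5 h hgen ha hb hab hne hy hya hyb
  have hne₁ : y ≠ y₁ := fun h' => hya (commute_of_commute_product hOT ha hb hne hab hy (by
    show y * t = t * y
    conv_lhs => rw [h', hy₁, mul_assoc, htt, mul_one])).1
  have hy₁a : ¬ Commute y₁ a := fun h' => hya (by
    have h1 := (hta.mul_left h').mul_left hta
    rwa [hy₁, conj_self_inv htt] at h1)
  set u := y * y₁ with hu
  have huu : u * u = 1 := mul_self_of_commute hD hy hy₁D hyy₁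
  have hut : t * u * t = u := by
    rw [hu, show t * (y * y₁) * t = (t * y * t) * (t⁻¹ * y₁ * t) by group, hti, hy₁, conj_self_inv htt]
    exact hyy₁.symm.eq
  have hut' : Commute t u := by
    show t * u = u * t
    conv_rhs => rw [← hut, mul_assoc, htt, mul_one]
  set d := u * a * u with hd
  set e := u * b * u with he
  have hdD : d ∈ D := conj_mem_inv hD huu ha
  have heD : e ∈ D := conj_mem_inv hD huu hb
  have hde : d * e = t := by
    rw [hd, he, show u * a * u * (u * b * u) = u * a * (u * u) * b * u by group, huu, mul_one,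
      show u * a * b * u = u * t * u by rw [ht]; group, ← hut'.eq, mul_assoc, huu, mul_one]
  have hdec : Commute d e := (hab.map (MulAut.conj u).toMonoidHom : Commute _ _) |> fun h' => by
    simpa [hd, he, inv_eq_of_mul_eq_one_right huu] using h'
  have hdt : Commute d t := by rw [← hde]; exact (Commute.refl d).mul_right hdec
  have het : Commute e t := by rw [← hde]; exact hdec.symm.mul_right (Commute.refl e)
  obtain ⟨hda, hdb⟩ := commute_of_commute_product hOT ha hb hne hab hdD hdt
  obtain ⟨hea, heb⟩ := commute_of_commute_product hOT ha hb hne hab heD het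
  have hdb' : d ≠ b := by
    intro hdb0
    -- otherwise the product of `y` and `a` has order three
    set v := y * a * y with hv
    set v' := y * b * y with hv'
    have hvD : v ∈ D := conj_mem_inv hD (mul_self hD hy) ha
    have hv'D : v' ∈ D := conj_mem_inv hD (mul_self hD hy) hb
    have hvv : Commute v v' := by
      have := hab.map (MulAut.conj y).toMonoidHom
      simpa [hv, hv', inv_eq hD hy] using this
    have hvne : v ≠ v' := fun h' => hne (by
      have := congrArg (fun k => y * k * y) h'
      simpa only [hv, hv', conj_self_inv (mul_self hD hy)] using this)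
    have hvp : v * v' = t * u := by
      rw [hv, hv', show y * a * y * (y * b * y) = y * a * (y * y) * b * y by group, mul_self hD hy, mul_one, hut'.eq,
        hu, hy₁, show y * (t * y * t) * t = y * t * y * (t * t) by group, htt, mul_one, ht]
      group
    have haua : a * u * a = t * u := by
      have h1 : u * a = b * u := by
        rw [← hdb0, hd, mul_assoc (u * a) u u, huu, mul_one]
      rw [mul_assoc, h1, ← mul_assoc]
    have hvy : Commute (a * y * a) (v * v') := by
      rw [hvp, ← haua]
      have := ((Commute.refl y).mul_right hyy₁).map (MulAut.conj a).toMonoidHom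
      simpa [hu, inv_eq hD ha] using this
    have hcv := (commute_of_commute_product hOT hvD hv'D hvne hvv (conj_mem_inv hD (mul_self hD ha) hy) hvy).1
    have h3 : v * (a * y * a) = (y * a) ^ 3 := by
      rw [hv, show (3 : ℕ) = 1 + 1 + 1 from rfl, pow_add, pow_add, pow_one]
      group
    have h6 : (y * a) ^ 6 = 1 := by
      rw [show (6 : ℕ) = 3 * 2 from rfl, pow_mul, ← h3, pow_two]
      exact mul_self_of_commute hD hvD (conj_mem_inv hD (mul_self hD ha) hy) hcv.symm
    have hne' : (y * a) ^ 2 ≠ 1 := fun h' => hya (by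
      rw [pow_two, mul_eq_one_iff_eq_inv, _root_.mul_inv_rev, inv_eq hD ha, inv_eq hD hy] at h'
      exact h')
    rcases h.prod y hy a ha with h' | h'
    · exact hne' h'
    · have hcop : Nat.Coprime p 6 := by
        rw [show (6 : ℕ) = 2 * 3 from rfl]
        exact ((Nat.coprime_primes hp Nat.prime_two).2 (by omega)).mul_right
          ((Nat.coprime_primes hp Nat.prime_three).2 (by omega))
      exact hne' (by rw [orderOf_eq_one_iff.1 (Nat.eq_one_of_dvd_coprimes hcop (orderOf_dvd_of_pow_eq_one h')
        (orderOf_dvd_of_pow_eq_one h6)), one_pow])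
  have hdne : d ≠ e := fun h' => hne (by
    have := congrArg (fun k => u * k * u) h'
    simpa only [hd, he, conj_self_inv huu] using this)
  have hbe : b ≠ e := fun h' => by
    have h1 : d = a := mul_right_cancel (b := b) (by
      calc d * b = d * e := by rw [← h']
        _ = a * b := hde)
    refine hya (commute_of_commute_product hOT hy hy₁D hne₁ hyy₁ ha ?_).1.symm
    show a * u = u * a
    conv_lhs => rw [← h1, hd, mul_assoc, huu, mul_one]
  have hbabe : a * t = b := by rw [ht, ← mul_assoc, mul_self hD ha, one_mul]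
  by_cases hzd : Commute z d
  · by_cases hze : Commute z e
    · rw [← hbabe, ← hde]
      exact hza.mul_right (hzd.mul_right hze)
    · have h1 : a * d = b * e := by
        have he' : e = d * t := by rw [← hde, ← mul_assoc, mul_self hD hdD, one_mul]
        have hbt : b * t = a := by rw [ht, hab.eq, ← mul_assoc, mul_self hD hb, one_mul]
        rw [he', ← mul_assoc b d t, ← hdb.eq, mul_assoc d b t, hbt, hda.eq]
      exact (commute_of_commute_product hOT hb heD hbe heb.symm hz (h1 ▸ hza.mul_right hzd)).1
  · by_cases hze : Commute z e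
    · have h1 : a * e = b * d := by
        have hd' : d = t * e := by rw [← hde, mul_assoc, mul_self hD heD, mul_one]
        rw [hd', ← mul_assoc b t e, show b * t = a by rw [ht, hab.eq, ← mul_assoc, mul_self hD hb, one_mul]]
      exact (commute_of_commute_product hOT hb hdD (Ne.symm hdb') hdb.symm hz (h1 ▸ hza.mul_right hze)).1
    · by_contra hzb
      refine moved_triple_false hp h5 h hdD heD hb hdec hdb heb hdne hz hzd hze hzb ?_
      rw [hde, show b * t = a by rw [ht, hab.eq, ← mul_assoc, mul_self hD hb, one_mul]]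
      exact hza.symm

/-- Commuting members are twins. -/
theorem twins_of_commute (hp : p.Prime) (h5 : 5 ≤ p) (h : OrderSet p D) (hgen : closure D = ⊤)
    (hcl : ∀ a ∈ D, ∀ b ∈ D, ∃ g : G, b = g * a * g⁻¹) (ha : a ∈ D) (hb : b ∈ D) (hab : Commute a b) :
    b ∈ sameCommutingClass D a := by
  have hOT := h.toOT hp (by omega) hgen
  have hD := hOT.1
  by_contra hE
  have hwit : ∀ u ∈ D, Commute u b → b ∉ sameCommutingClass D u → ∀ v ∈ D, ¬ Commute v u → Commute v b := by
    intro u hu hub huE v hv hvu
    by_contra hvb
    have hne : u ≠ b := fun h' => hvb (h' ▸ (absurd (h' ▸ self_mem_twins hu) huE))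
    exact huE ⟨hb, Set.ext fun z =>
      ⟨fun hz => ⟨hz.1, (commute_other hp h5 h hgen hu hb hub hne hv hvu hvb hz.1 hz.2).eq⟩,
       fun hz => ⟨hz.1, (commute_other hp h5 h hgen hb hu hub.symm (Ne.symm hne) hv hvb hvu hz.1 hz.2).eq⟩⟩⟩
  have key : ∀ v, Relation.ReflTransGen (OddAdj D) a v → Commute v b ∧ b ∉ sameCommutingClass D v := by
    intro v hv
    induction hv with
    | refl => exact ⟨hab, hE⟩
    | @tail u v _ huv ih =>
      obtain ⟨hub, huE⟩ := ih
      have hne : ¬ Commute v u := fun h' => not_commute_of_odd hD huv h'.symm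
      refine ⟨hwit u huv.1 hub huE v huv.2.1 hne, fun h' => hne ?_⟩
      exact ((commute_twin_iff h' huv.1).2 hub).symm
  exact (key b (oddConnected_of_class hOT hcl a ha b hb)).2 (self_mem_twins hb)

/-- Without a 2-core and a centre no two different members commute. -/
theorem eq_of_commute (hp : p.Prime) (h5 : 5 ≤ p) (h : OrderSet p D) (hgen : closure D = ⊤)
    (hcl : ∀ a ∈ D, ∀ b ∈ D, ∃ g : G, b = g * a * g⁻¹) (hO : pCore 2 G = ⊥) (hZ : center G = ⊥)
    (ha : a ∈ D) (hb : b ∈ D) (hab : Commute a b) : a = b := by
  have hOT := h.toOT hp (by omega) hgen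
  have hD := hOT.1
  by_contra hne
  have htt := mul_self_of_commute hD ha hb hab
  have hmem : a * b ∈ twinKernel hD := by
    intro y hy
    rw [inv_eq_of_mul_eq_one_right htt]
    have hy' := conj_mem_inv hD htt hy
    have hc : Commute y (a * b * y * (a * b)) := by
      have hfix : ∀ u v : G, u ∈ D → v ∈ D → Commute u v → Commute y u → Commute y v :=
        fun u v hu hv huv hyu => (commute_twin_iff (twins_of_commute hp h5 h hgen hcl hu hv huv) hy).1 hyu
      by_cases hya : Commute y a
      · have hyt : Commute y (a * b) := hya.mul_right (hfix a b ha hb hab hya)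
        rw [show a * b * y * (a * b) = y by rw [← hyt.eq, mul_assoc, htt, mul_one]]
      · exact move_commutes hp h5 h hgen ha hb hab hne hy hya fun h' => hya (hfix b a hb ha hab.symm h')
    exact ((commuting_eq_iff hD hcl hy hy').1 (twins_of_commute hp h5 h hgen hcl hy hy' hc).2).symm
  have h1 := twinKernel_le_twoZCore hD hcl hmem
  rw [(twoZCore_eq_center hO).1, hZ, mem_bot] at h1
  exact mul_ne_one_of_ne hD hb hne h1

end Cfsg.Lib.RootInv
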